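import Mathlib

/-!
# Two lemmas for minimal counterexamples to the `Z_p^*` theorem
-/

set_option autoImplicit false
set_option linter.style.haveILetI false

namespace CfsgLib.IsolatedMin

variable {G : Type*} [Group G]

theorem inf_center_ne_bot [Finite G] {p : ℕ} [Fact p.Prime] (hG : IsPGroup p G) (N : Subgroup G)
    [N.Normal] (hN : N ≠ ⊥) : N ⊓ Subgroup.center G ≠ ⊥ := by
  haveI : Nontrivial N := (Subgroup.nontrivial_iff_ne_bot _).mpr hN
  have hact : IsPGroup p (ConjAct G) := hG
  obtain ⟨k, hk0, hk⟩ := (hG.to_subgroup N).nontrivial_iff_card.mp inferInstance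
  have h1 : p ∣ Nat.card N := hk ▸ dvd_pow_self p hk0.ne'
  have hfix : (1 : N) ∈ MulAction.fixedPoints (ConjAct G) N := fun g => smul_one g
  obtain ⟨b, hb, hne⟩ := hact.exists_fixed_point_of_prime_dvd_card_of_fixed_point N h1 hfix
  intro hbot
  have hbc : (b : G) ∈ N ⊓ Subgroup.center G := by
    refine ⟨b.2, Subgroup.mem_center_iff.mpr fun g => ?_⟩
    have := congrArg Subtype.val (hb (ConjAct.toConjAct g))
    rw [ConjAct.Subgroup.val_conj_smul, ConjAct.smul_def, ConjAct.ofConjAct_toConjAct] at this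
    exact mul_inv_eq_iff_eq_mul.mp this
  rw [hbot, Subgroup.mem_bot] at hbc
  exact hne (Subtype.ext hbc.symm)

/-- Commuting conjugates of an element of order `p` under an element `x` of order `p`: a twisted
product `g` moves `x` to `d x`, where `d` is the product of the conjugates. -/
theorem exists_twist {p : ℕ} [hp : Fact p.Prime] (x a : G) (hx : orderOf x = p)
    (ha : orderOf a = p)
    (hc : ∀ i < p, ∀ j < p, i ≠ j → Commute (MulAut.conj (x ^ i) a) (MulAut.conj (x ^ j) a))
    (R : Subgroup G) (hR : ∀ i < p, i ≠ 0 → MulAut.conj (x ^ i) a ∈ R) :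
    ∃ d : G, a⁻¹ * d ∈ R ∧ Commute x d ∧ ∃ g : G, g * x * g⁻¹ = d * x := by
  set A : ℕ → G := fun i => MulAut.conj (x ^ i) a with hA
  have hxp : x ^ p = 1 := hx ▸ pow_orderOf_eq_one x
  have hap : a ^ p = 1 := ha ▸ pow_orderOf_eq_one a
  have hper : ∀ i, A i = A (i % p) := fun i => by
    show MulAut.conj (x ^ i) a = MulAut.conj (x ^ (i % p)) a
    rw [← hx, pow_mod_orderOf]
  have hAc : ∀ i j, Commute (A i) (A j) := fun i j => by
    rw [hper i, hper j]
    by_cases h : i % p = j % p
    · rw [h]
    · exact hc _ (Nat.mod_lt _ hp.out.pos) _ (Nat.mod_lt _ hp.out.pos) h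
  set K := Subgroup.closure (Set.range A) with hK
  have hKc : IsMulCommutative K :=
    Subgroup.isMulCommutative_closure (by rintro _ ⟨i, rfl⟩ _ ⟨j, rfl⟩; exact (hAc i j).eq)
  letI : CommGroup K := { (inferInstance : Group K) with mul_comm := mul_comm' }
  let B : ℕ → K := fun i => ⟨A i, Subgroup.subset_closure ⟨i, rfl⟩⟩
  let f : K →* G := (MulAut.conj x).toMonoidHom.comp K.subtype
  have hf : ∀ i, f (B i) = (B (i + 1) : G) := fun i => by
    show MulAut.conj x (MulAut.conj (x ^ i) a) = MulAut.conj (x ^ (i + 1)) a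
    rw [pow_succ', map_mul]
    rfl
  have hBp : ∀ i, B i ^ p = 1 := fun i => Subtype.ext (by
    show MulAut.conj (x ^ i) a ^ p = 1
    rw [← map_pow, hap, map_one])
  have hBwrap : B p = B 0 := Subtype.ext (by
    show A p = A 0
    rw [hper p, Nat.mod_self])
  set d : K := ∏ i ∈ Finset.range p, B i with hd
  set w : K := ∏ i ∈ Finset.range p, B i ^ i with hw
  have hfK : ∀ k : K, f k ∈ K := by
    intro k
    have hle : K.map (MulAut.conj x).toMonoidHom ≤ K := by
      rw [hK, MonoidHom.map_closure, Subgroup.closure_le]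
      rintro _ ⟨_, ⟨i, rfl⟩, rfl⟩
      exact Subgroup.subset_closure ⟨i + 1, by
        show MulAut.conj (x ^ (i + 1)) a = MulAut.conj x (MulAut.conj (x ^ i) a)
        rw [pow_succ', map_mul]; rfl⟩
    exact hle ⟨k, k.2, rfl⟩
  let σ : K →* K := f.codRestrict K hfK
  have hσ : ∀ i, σ (B i) = B (i + 1) := fun i => Subtype.ext (hf i)
  have h2 : ∏ i ∈ Finset.range p, B (i + 1) = d := by
    have e1 := Finset.prod_range_succ' B p
    rw [Finset.prod_range_succ, hBwrap] at e1
    exact mul_right_cancel e1.symm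
  have hfd : f d = (d : G) := by
    have h1 : σ d = d := by
      conv_lhs => rw [hd, map_prod, Finset.prod_congr rfl (fun i _ => hσ i)]
      exact h2
    exact congrArg Subtype.val h1
  have hfw : f w * (d : G) = (w : G) := by
    have e2 := Finset.prod_range_succ' (fun i => B i ^ i) p
    rw [Finset.prod_range_succ, hBp p, mul_one, pow_zero, mul_one] at e2
    have h1 : σ w * d = w := by
      have h3 : σ w = ∏ i ∈ Finset.range p, B (i + 1) ^ i := by
        rw [hw, map_prod]
        exact Finset.prod_congr rfl fun i _ => by rw [map_pow, hσ i]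
      rw [h3, ← h2, ← Finset.prod_mul_distrib, hw, e2]
      exact Finset.prod_congr rfl fun i _ => (pow_succ _ _).symm
    exact congrArg Subtype.val h1
  refine ⟨d, ?_, ?_, (w : G), ?_⟩
  · obtain ⟨m, hm⟩ := Nat.exists_eq_succ_of_ne_zero hp.out.ne_zero
    have h1 : d = (∏ i ∈ Finset.range m, B (i + 1)) * B 0 := by
      rw [hd, hm, Finset.prod_range_succ']
    rw [h1]
    have h2 : (∏ i ∈ Finset.range m, B (i + 1)) * B 0 = B 0 * ∏ i ∈ Finset.range m, B (i + 1) :=
      mul_comm _ _
    rw [h2, Subgroup.coe_mul]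
    have h3 : (B 0 : G) = a := by show MulAut.conj (x ^ 0) a = a; simp
    rw [h3, inv_mul_cancel_left]
    have h4 : ((∏ i ∈ Finset.range m, B (i + 1) : K) : G) ∈ R := by
      have : (∏ i ∈ Finset.range m, B (i + 1)) ∈ R.comap K.subtype :=
        prod_mem fun i hi => hR (i + 1) (by have := Finset.mem_range.mp hi; omega) (by omega)
      exact this
    exact h4
  · have h := hfd
    simp only [f, MonoidHom.coe_comp, Function.comp_apply, MulEquiv.coe_toMonoidHom,
      MulAut.conj_apply, Subgroup.coe_subtype] at h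
    exact mul_inv_eq_iff_eq_mul.mp h
  · have h : x * (w : G) * x⁻¹ * (d : G) = (w : G) := by
      simpa [f, mul_assoc] using hfw
    have hxd : Commute x (d : G) := by
      have h' := hfd
      simp only [f, MonoidHom.coe_comp, Function.comp_apply, MulEquiv.coe_toMonoidHom,
        MulAut.conj_apply, Subgroup.coe_subtype] at h'
      exact mul_inv_eq_iff_eq_mul.mp h'
    have h5 : (w : G) * x = x * (w : G) * (d : G) := by
      conv_lhs => rw [← h]
      rw [mul_assoc (x * (w : G) * x⁻¹), ← hxd.eq]
      group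
    have h6 : Commute (w : G) (d : G) := congrArg Subtype.val (mul_comm w d)
    rw [mul_inv_eq_iff_eq_mul, h5, mul_assoc x, h6.eq, ← mul_assoc, hxd.eq]

end CfsgLib.IsolatedMin
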